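import Groth.Prelude.Def_RedSub
import Groth.Agent.Sga3B.DictPts414
import Groth.Agent.Sga3B.Chart
import Mathlib.AlgebraicGeometry.PullbackCarrier

/-!
# Affine charts of schemes affine over `S`, recognised by their points

`isPullback_of_bijective`: if `X` is affine over `S` and `q : Spec C ⟶ X` (over `Spec R ⟶ S`) induces bijections
`(C →ₐ[R] B) ≃ X(Spec B)` for all `R`-algebras `B` then `Spec C = X ×_S Spec R` via `q`.
Also: products, powers, `Ga S` and split tori are affine over `S`.
-/

set_option autoImplicit false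
universe u

open CategoryTheory MonoidalCategory CartesianMonoidalCategory MonObj GrpObj AlgebraicGeometry Limits

namespace Groth.Agent.RedSub.H633.AffChart

open Groth.Agent.Sga3B Cell PinMod DSPts GaPts

variable {S : Scheme.{u}}

theorem isAffineHom_tensor (X Y : Over S) [IsAffineHom X.hom] [IsAffineHom Y.hom] :
    IsAffineHom (X ⊗ Y).hom := by
  rw [Over.tensorObj_hom]
  have h : IsAffineHom (pullback.fst X.hom Y.hom) :=
    MorphismProperty.pullback_fst (P := @IsAffineHom) _ _ ‹_›
  exact MorphismProperty.comp_mem (W := @IsAffineHom) _ _ h ‹_›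

theorem isAffineHom_unit : IsAffineHom (𝟙_ (Over S)).hom := inferInstanceAs (IsAffineHom (𝟙 S))

theorem isAffineHom_pow (X : Over S) [IsAffineHom X.hom] : ∀ n : ℕ, IsAffineHom (RedSub.pow X n).hom
  | 0 => isAffineHom_unit
  | n + 1 => by
    have := isAffineHom_pow X n
    exact isAffineHom_tensor X (RedSub.pow X n)

theorem isAffineHom_Ga : IsAffineHom (Red.Ga S).hom := by
  have h : IsAffineHom (Red.GaZ.{u}).hom := by
    change IsAffineHom (Spec.map _)
    infer_instance
  exact MorphismProperty.pullback_snd (P := @IsAffineHom) _ _ h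

theorem isAffineHom_DS (M : Type) [AddCommGroup M] : IsAffineHom (Red.DS S M).hom := by
  have h : IsAffineHom (Red.diag (ULift.{u} ℤ) M).hom := by
    change IsAffineHom (Spec.map _)
    infer_instance
  exact MorphismProperty.pullback_snd (P := @IsAffineHom) _ _ h

theorem isAffineHom_of_iso {X Y : Over S} (e : X ⟶ Y) [IsIso e] [IsAffineHom Y.hom] :
    IsAffineHom X.hom := by
  have h1 : e.left ≫ Y.hom = X.hom := Over.w e
  have h2 : IsIso e.left := inferInstanceAs (IsIso ((Over.forget S).map e))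
  rw [← h1]
  infer_instance

section pb

variable {R : Type u} [CommRing R] (s : Spec (CommRingCat.of R) ⟶ S)

/-- Recognition of the base change of an affine `S`-scheme by its points. -/
theorem isPullback_of_bijective (X : Over S) [IsAffineHom X.hom] {C : Type u} [CommRing C]
    [Algebra R C] (q : tB s C ⟶ X)
    (h : ∀ (B : Type u) [CommRing B] [Algebra R B],
      Function.Bijective (fun f : C →ₐ[R] B => tMap s f ≫ q)) :
    IsPullback q.left (Spec.map (CommRingCat.ofHom (algebraMap R C))) X.hom s := by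
  let g : Pt R (Dict.GA X s) C := (Dict.ptsEquiv X s C).symm q
  have hg : ∀ (B : Type u) [CommRing B] [Algebra R B] (f : C →ₐ[R] B),
      Dict.ptsEquiv X s B (Pt.map f g) = tMap s f ≫ q := by
    intro B _ _ f
    rw [← Dict.ptsEquiv_nat]
    congr 1
    exact (Dict.ptsEquiv X s C).apply_symm_apply q
  have hb : ∀ (B : Type u) [CommRing B] [Algebra R B],
      Function.Bijective (fun f : C →ₐ[R] B => Pt.map f g) := by
    intro B _ _
    have h1 := h B
    have h2 : (fun f : C →ₐ[R] B => tMap s f ≫ q) =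
        (Dict.ptsEquiv X s B) ∘ (fun f : C →ₐ[R] B => Pt.map f g) := by
      funext f; exact (hg B f).symm
    rw [h2] at h1
    exact (Equiv.comp_bijective _ (Dict.ptsEquiv X s B)).mp h1
  -- the inverse
  obtain ⟨r, hr⟩ := (hb (Dict.GA X s)).2 (Pt.mk (AlgHom.id R _))
  have hr1 : r.comp g.hom = AlgHom.id R _ := hr
  have hr2 : g.hom.comp r = AlgHom.id R _ := by
    apply (hb C).1
    change Pt.map (g.hom.comp r) g = Pt.map (AlgHom.id R C) g
    have h3 : Pt.map (g.hom.comp r) g = Pt.map g.hom (Pt.map r g) := rfl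
    have h4 : Pt.map r g = Pt.mk (AlgHom.id R _) := hr
    rw [h3, h4]
    rfl
  let e : Dict.GA X s ≃ₐ[R] C := AlgEquiv.ofAlgHom g.hom r hr2 hr1
  have hq : q.left = Spec.map (CommRingCat.ofHom (g.hom : Dict.GA X s →+* C)) ≫ Dict.pGA X s := by
    have h5 : q = Dict.ptsEquiv X s C g := ((Dict.ptsEquiv X s C).apply_symm_apply q).symm
    conv_lhs => rw [h5]
    rw [Dict.ptsEquiv_left, Dict.ptLift, Dict.pGA, Category.assoc]
  have hiso : IsIso (Spec.map (CommRingCat.ofHom (g.hom : Dict.GA X s →+* C))) := by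
    have h6 : IsIso (CommRingCat.ofHom (g.hom : Dict.GA X s →+* C)) :=
      inferInstanceAs (IsIso (e.toRingEquiv.toCommRingCatIso.hom))
    infer_instance
  have hp := Dict.isPullback_GA X s
  have h7 : IsPullback (Spec.map (CommRingCat.ofHom (g.hom : Dict.GA X s →+* C)) ≫ Dict.pGA X s)
      (Spec.map (CommRingCat.ofHom (algebraMap R C))) X.hom (𝟙 _ ≫ s) := by
    refine IsPullback.paste_horiz (h₁₂ := Dict.pGA X s) (v₁₂ := Spec.map (CommRingCat.ofHom (algebraMap R (Dict.GA X s)))) ?_ hp
    refine IsPullback.of_horiz_isIso ⟨?_⟩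
    rw [Category.comp_id, ← Spec.map_comp]
    congr 1
    ext x
    exact g.hom.commutes x
  rw [Category.id_comp] at h7
  rw [hq]
  exact h7

end pb

/-- The image of one leg of a pullback square. -/
theorem range_inter_range {X Y Z P : Scheme.{u}} {fst : P ⟶ X} {snd : P ⟶ Y} {f : X ⟶ Z}
    {g : Y ⟶ Z} (h : IsPullback fst snd f g) :
    Set.range f ∩ Set.range g = g '' Set.range snd := by
  ext z
  constructor
  · rintro ⟨⟨x, hx⟩, ⟨y, hy⟩⟩
    obtain ⟨w, hw1, hw2⟩ := Scheme.Pullback.exists_preimage_pullback x y (hx.trans hy.symm)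
    refine ⟨y, ⟨h.isoPullback.inv w, ?_⟩, hy⟩
    rw [← hw2, ← Scheme.Hom.comp_apply, h.isoPullback_inv_snd]
  · rintro ⟨y, ⟨w, rfl⟩, rfl⟩
    refine ⟨⟨fst w, ?_⟩, ⟨_, rfl⟩⟩
    rw [← Scheme.Hom.comp_apply, ← Scheme.Hom.comp_apply, h.w]

end Groth.Agent.RedSub.H633.AffChart
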