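import Groth.Agent.RedSub.H633.CellSch

/-!
# The big cell map of a split reductive group is an open immersion, with image independent of the orderings

`isOpenImmersion_cellMap`, `range_cellMap_eq` for the signs given by a regular functional `lam`, and
`isOpenImmersion_cellMap_base`, `range_cellMap_eq_base` for a base.  `mono_cellMap` as well.
-/

set_option autoImplicit false
universe u

open CategoryTheory MonoidalCategory CartesianMonoidalCategory MonObj GrpObj AlgebraicGeometry Limits

namespace Groth.Agent.RedSub.H633.CellOpenImm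

open Groth.Agent.Sga3B Cell PinMod DSPts GaPts PowPts Chart CellPtsR AffChart SortedCell PosRoots CellSch
open Groth.Agent.Sga3B.Cell.Datum

variable {S : Scheme.{u}} {G : Over S} [GrpObj G] (D : Red.SplitRed G)

/-- `eneg` enumerates the roots with `lam < 0` and `epos` the roots with `lam > 0`. -/
structure SignEnum (lam : D.M →+ ℤ) {n m : ℕ} (eneg : Fin n → D.idx) (epos : Fin m → D.idx) : Prop where
  reg : ∀ a, lam (D.P.root a) ≠ 0
  neg_inj : Function.Injective eneg
  pos_inj : Function.Injective epos
  neg_range : ∀ a, a ∈ Set.range eneg ↔ lam (D.P.root a) < 0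
  pos_range : ∀ a, a ∈ Set.range epos ↔ 0 < lam (D.P.root a)

variable {D} {lam : D.M →+ ℤ} {n m : ℕ} {eneg : Fin n → D.idx} {epos : Fin m → D.idx}

lemma SignEnum.comp (h : SignEnum D lam eneg epos) (a : D.idx) :
    a ∈ Set.range eneg ↔ a ∉ Set.range epos := by
  rw [h.neg_range, h.pos_range]
  have := h.reg a
  omega

lemma SignEnum.sorted (h : SignEnum D lam eneg epos) {R : Type u} [CommRing R]
    {s : Spec (CommRingCat.of R) ⟶ S} (c : Chart G s) :
    Sorted (c.datum D) (fun a => lam (D.P.root a)) (lst D eneg epos) where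
  nodup := lst_nodup h.neg_inj h.pos_inj h.comp
  mem := mem_lst h.comp
  split := ⟨List.ofFn eneg, List.ofFn epos, rfl, fun a ha => by
    rw [List.mem_ofFn] at ha
    exact (h.neg_range a).1 ha, fun a ha => by
    rw [List.mem_ofFn] at ha
    exact (h.pos_range a).1 ha⟩

lemma SignEnum.of_base (b : D.P.Base)
    (hneg : RedSub.Enumerates (RedSub.negRoots D.P b) eneg)
    (hpos : RedSub.Enumerates (RedSub.posRoots D.P b) epos) :
    ∃ lam : D.M →+ ℤ, (∀ a, lam (D.P.root a) ≠ 0) ∧
      (∀ a, a ∈ RedSub.posRoots D.P b ↔ 0 < lam (D.P.root a)) ∧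
      (∀ a, a ∈ RedSub.negRoots D.P b ↔ lam (D.P.root a) < 0) ∧ SignEnum D lam eneg epos := by
  obtain ⟨lam, h1, h2, h3⟩ := exists_lam b
  exact ⟨lam, h1, h2, h3, h1, hneg.1, hpos.1, fun a => by rw [hneg.2, h3], fun a => by rw [hpos.2, h2]⟩

/-- **The big cell map is an open immersion.** -/
theorem isOpenImmersion_cellMap (h : SignEnum D lam eneg epos) :
    IsOpenImmersion (RedSub.cellMap D eneg epos).left := by
  choose R hR s c hs hp hx using fun x => exists_chart_cover (G := G) D x
  refine IsZariskiLocalAtTarget.of_openCover (P := @IsOpenImmersion)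
    (Scheme.Cover.mkOfCovers (P := @IsOpenImmersion) G.left
      (fun x => Spec (CommRingCat.of (c x).A)) (fun x => (c x).p) (fun x => ⟨x, hx x⟩) hp) fun x => ?_
  have h1 := isPullback_cellMap (s x) (c x) h.neg_inj h.pos_inj h.comp
  have h2 := isOpenImmersion_chart (s x) (c x) lam h.reg (h.sorted (c x))
  change IsOpenImmersion (pullback.snd (RedSub.cellMap D eneg epos).left (c x).p)
  rw [← h1.isoPullback_inv_snd]
  exact MorphismProperty.comp_mem (W := @IsOpenImmersion) _ _ inferInstance h2

theorem mono_cellMap (h : SignEnum D lam eneg epos) : Mono (RedSub.cellMap D eneg epos) := by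
  have := isOpenImmersion_cellMap h
  exact (Over.forget S).mono_of_mono_map (inferInstanceAs (Mono (RedSub.cellMap D eneg epos).left))

/-- **The image of the big cell map does not depend on the orderings.** -/
theorem range_cellMap_le {n' m' : ℕ} {eneg' : Fin n' → D.idx} {epos' : Fin m' → D.idx}
    (h : SignEnum D lam eneg epos) (h' : SignEnum D lam eneg' epos') :
    Set.range (RedSub.cellMap D eneg epos).left ⊆ Set.range (RedSub.cellMap D eneg' epos').left := by
  intro x hx
  obtain ⟨R, _, s, c, hs, hp, hxc⟩ := exists_chart_cover D x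
  have e1 := range_inter_range (isPullback_cellMap s c h.neg_inj h.pos_inj h.comp)
  have e2 := range_inter_range (isPullback_cellMap s c h'.neg_inj h'.pos_inj h'.comp)
  have h1 : x ∈ c.p '' Set.range (Spec.map (CommRingCat.ofHom
      ((c.datum D).phi (lst D eneg epos) : c.A →+* (c.datum D).CR))) := by
    rw [← e1]; exact ⟨hx, hxc⟩
  have h2 : Set.range (Spec.map (CommRingCat.ofHom
      ((c.datum D).phi (lst D eneg epos) : c.A →+* (c.datum D).CR))) =
      Set.range (Spec.map (CommRingCat.ofHom
      ((c.datum D).phi (lst D eneg' epos') : c.A →+* (c.datum D).CR))) := by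
    have hG := c.good848 D
    exact (h.sorted c).range_eq hG lam h.reg (h'.sorted c)
  rw [h2, ← e2] at h1
  exact h1.1

theorem range_cellMap_eq {n' m' : ℕ} {eneg' : Fin n' → D.idx} {epos' : Fin m' → D.idx}
    (h : SignEnum D lam eneg epos) (h' : SignEnum D lam eneg' epos') :
    Set.range (RedSub.cellMap D eneg epos).left = Set.range (RedSub.cellMap D eneg' epos').left :=
  Set.Subset.antisymm (range_cellMap_le h h') (range_cellMap_le h' h)

theorem isOpenImmersion_cellMap_base (b : D.P.Base)
    (hneg : RedSub.Enumerates (RedSub.negRoots D.P b) eneg)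
    (hpos : RedSub.Enumerates (RedSub.posRoots D.P b) epos) :
    IsOpenImmersion (RedSub.cellMap D eneg epos).left := by
  obtain ⟨lam, -, -, -, h⟩ := SignEnum.of_base b hneg hpos
  exact isOpenImmersion_cellMap h

theorem range_cellMap_eq_base (b : D.P.Base) {n' m' : ℕ} {eneg' : Fin n' → D.idx}
    {epos' : Fin m' → D.idx}
    (hneg : RedSub.Enumerates (RedSub.negRoots D.P b) eneg)
    (hpos : RedSub.Enumerates (RedSub.posRoots D.P b) epos)
    (hneg' : RedSub.Enumerates (RedSub.negRoots D.P b) eneg')
    (hpos' : RedSub.Enumerates (RedSub.posRoots D.P b) epos') :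
    Set.range (RedSub.cellMap D eneg epos).left = Set.range (RedSub.cellMap D eneg' epos').left := by
  obtain ⟨lam, h1, h2, h3, h⟩ := SignEnum.of_base b hneg hpos
  exact range_cellMap_eq h ⟨h1, hneg'.1, hpos'.1, fun a => by rw [hneg'.2, h3],
    fun a => by rw [hpos'.2, h2]⟩

end Groth.Agent.RedSub.H633.CellOpenImm
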