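import Groth.Agent.RedSub.H633.PowPts
import Groth.Agent.RedSub.H633.AffChart
import Groth.Agent.Sga3B.Chart

/-!
# Points of `cellMap`, `borelMap`, `bruhatMap` in a chart

For `D : Red.SplitRed G`, `c : Chart G s` (`s : Spec R ⟶ S`), `E = c.datum D` and an `R`-algebra `B`:
* `gaB s x : tB s B ⟶ Ga S` for `x : B`, `tT D s t : tB s B ⟶ D.T` for `t : TPt D.M B`;
* `srcPt D s y t x` is the point of `pow (Ga S) n ⊗ (D.T ⊗ pow (Ga S) m)` with coordinates `y, t, x`;
* `srcPt_cellMap`, `srcPt_borelMap`, `srcPt_bruhatMap`: their images under the ordered product maps are the products of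
  `E.uu`, `E.i`.
-/

set_option autoImplicit false
universe u

open CategoryTheory MonoidalCategory CartesianMonoidalCategory MonObj GrpObj AlgebraicGeometry Limits

namespace Groth.Agent.RedSub.H633.CellPtsR

open Groth.Agent.Sga3B Cell PinMod DSPts GaPts PowPts Chart

variable {S : Scheme.{u}} {G : Over S} [GrpObj G] (D : Red.SplitRed G)
  {R : Type u} [CommRing R] (s : Spec (CommRingCat.of R) ⟶ S)

section pts

variable {B C : Type u} [CommRing B] [Algebra R B] [CommRing C] [Algebra R C]

/-- the point of `Ga S` with coordinate `x : B` -/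
noncomputable abbrev gaB (x : B) : tB s B ⟶ Red.Ga S := gaPt (tB s B) (fnOf s x)

/-- the point of the torus with coordinate `t : TPt D.M B` -/
noncomputable abbrev tT (t : TPt D.M B) : tB s B ⟶ D.T :=
  dsEquiv (tB s B) D.M (chΓ s t) ≫ splitInv D

lemma gaB_bijective : Function.Bijective (gaB s (B := B)) := by
  constructor
  · intro x y h
    apply fnOf_injective s
    have := congrArg Red.gaFn h
    rwa [gaFn_gaPt, gaFn_gaPt] at this
  · intro x
    obtain ⟨y, hy⟩ := exists_gaPt s x
    exact ⟨y, hy.symm⟩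

lemma tT_bijective : Function.Bijective (tT D s (B := B)) := by
  constructor
  · intro t t' h
    have h1 : dsEquiv (tB s B) D.M (chΓ s t) = dsEquiv (tB s B) D.M (chΓ s t') := by
      rwa [cancel_mono] at h
    exact chΓ_injective s ((dsEquiv (tB s B) D.M).injective h1)
  · intro x
    obtain ⟨t, ht⟩ := exists_chΓ s (x ≫ splitHom D)
    refine ⟨t, ?_⟩
    rw [tT, ← ht, Category.assoc, splitHom_inv, Category.comp_id]

lemma tMap_gaB (φ : B →ₐ[R] C) (x : B) : tMap s φ ≫ gaB s x = gaB s (φ x) := tMap_gaPt s φ x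

lemma tMap_tT (φ : B →ₐ[R] C) (t : TPt D.M B) : tMap s φ ≫ tT D s t = tT D s (TPt.map φ t) := by
  rw [← Category.assoc, tMap_dsEquiv]

lemma pts_uu' (c : Chart G s) (a : D.idx) (x : B) :
    c.pts B ((c.datum D).uu a B x) = gaB s x ≫ D.u a := c.pts_uPt D a x

lemma pts_i' (c : Chart G s) (t : TPt D.M B) :
    c.pts B ((c.datum D).i B t) = tT D s t ≫ D.i := by
  rw [c.pts_i D t, j_eq, Category.assoc]

/-- ordered products of root group elements -/
lemma pts_prod (c : Chart G s) {n : ℕ} (e : Fin n → D.idx) (y : Fin n → B) :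
    c.pts B (List.ofFn fun k => (c.datum D).uu (e k) B (y k)).prod =
      (List.ofFn fun k => gaB s (y k) ≫ D.u (e k)).prod := by
  rw [map_list_prod, List.map_ofFn]
  congr 2
  funext k
  exact pts_uu' D s c (e k) (y k)

/-- the point of the source of the Borel map with coordinates `t, x` -/
noncomputable def srcPtB {m : ℕ} (t : TPt D.M B) (x : Fin m → B) :
    tB s B ⟶ D.T ⊗ RedSub.pow (Red.Ga S) m :=
  lift (tT D s t) (mkPt fun l => gaB s (x l))

/-- the point of the source of the cell map with coordinates `y, t, x` -/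
noncomputable def srcPt {n m : ℕ} (y : Fin n → B) (t : TPt D.M B) (x : Fin m → B) :
    tB s B ⟶ RedSub.pow (Red.Ga S) n ⊗ (D.T ⊗ RedSub.pow (Red.Ga S) m) :=
  lift (mkPt fun k => gaB s (y k)) (srcPtB D s t x)

lemma tMap_srcPtB {m : ℕ} (φ : B →ₐ[R] C) (t : TPt D.M B) (x : Fin m → B) :
    tMap s φ ≫ srcPtB D s t x = srcPtB D s (TPt.map φ t) (fun l => φ (x l)) := by
  rw [srcPtB, comp_lift, tMap_tT, comp_mkPt, srcPtB]
  congr 2
  funext l
  exact tMap_gaB s φ (x l)

lemma tMap_srcPt {n m : ℕ} (φ : B →ₐ[R] C) (y : Fin n → B) (t : TPt D.M B) (x : Fin m → B) :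
    tMap s φ ≫ srcPt D s y t x =
      srcPt D s (fun k => φ (y k)) (TPt.map φ t) (fun l => φ (x l)) := by
  rw [srcPt, comp_lift, tMap_srcPtB, comp_mkPt, srcPt]
  congr 2
  funext l
  exact tMap_gaB s φ (y l)

lemma srcPtB_injective {m : ℕ} {t t' : TPt D.M B} {x x' : Fin m → B}
    (h : srcPtB D s t x = srcPtB D s t' x') : t = t' ∧ x = x' := by
  constructor
  · have h1 := congrArg (fun z => z ≫ fst _ _) h
    simp only [srcPtB, lift_fst] at h1
    exact (tT_bijective D s).1 h1
  · have h1 := congrArg (fun z => z ≫ snd _ _) h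
    simp only [srcPtB, lift_snd] at h1
    funext l
    have h2 := congrArg (fun z => coord z l) h1
    simp only [coord_mkPt] at h2
    exact (gaB_bijective s).1 h2

lemma srcPt_injective {n m : ℕ} {y y' : Fin n → B} {t t' : TPt D.M B} {x x' : Fin m → B}
    (h : srcPt D s y t x = srcPt D s y' t' x') : y = y' ∧ t = t' ∧ x = x' := by
  constructor
  · have h1 := congrArg (fun z => z ≫ fst _ _) h
    simp only [srcPt, lift_fst] at h1
    funext l
    have h2 := congrArg (fun z => coord z l) h1
    simp only [coord_mkPt] at h2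
    exact (gaB_bijective s).1 h2
  · have h1 := congrArg (fun z => z ≫ snd _ _) h
    simp only [srcPt, lift_snd] at h1
    exact srcPtB_injective D s h1

lemma exists_srcPtB {m : ℕ} (z : tB s B ⟶ D.T ⊗ RedSub.pow (Red.Ga S) m) :
    ∃ (t : TPt D.M B) (x : Fin m → B), z = srcPtB D s t x := by
  obtain ⟨t, ht⟩ := (tT_bijective D s (B := B)).2 (z ≫ fst _ _)
  choose x hx using fun l => (gaB_bijective s (B := B)).2 (coord (z ≫ snd _ _) l)
  refine ⟨t, x, ?_⟩
  rw [eq_lift' z, srcPtB, ht]
  congr 2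
  funext l
  exact (hx l).symm

lemma exists_srcPt {n m : ℕ}
    (z : tB s B ⟶ RedSub.pow (Red.Ga S) n ⊗ (D.T ⊗ RedSub.pow (Red.Ga S) m)) :
    ∃ (y : Fin n → B) (t : TPt D.M B) (x : Fin m → B), z = srcPt D s y t x := by
  obtain ⟨t, x, htx⟩ := exists_srcPtB D s (z ≫ snd _ _)
  choose y hy using fun l => (gaB_bijective s (B := B)).2 (coord (z ≫ fst _ _) l)
  refine ⟨y, t, x, ?_⟩
  rw [srcPt, ← htx]
  apply CartesianMonoidalCategory.hom_ext
  · rw [lift_fst]
    rw [← mkPt_coord (z ≫ fst _ _)]
    congr 1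
    funext l
    exact (hy l).symm
  · rw [lift_snd]

/-- the Borel map in coordinates -/
lemma srcPt_borelMap (c : Chart G s) {m : ℕ} (epos : Fin m → D.idx) (t : TPt D.M B)
    (x : Fin m → B) : srcPtB D s t x ≫ RedSub.borelMap D epos =
      c.pts B ((c.datum D).i B t * (List.ofFn fun l => (c.datum D).uu (epos l) B (x l)).prod) := by
  rw [srcPtB, lift_borelMap, map_mul, pts_i' D s c t, pts_prod]

/-- the cell map in coordinates -/
lemma srcPt_cellMap (c : Chart G s) {n m : ℕ} (eneg : Fin n → D.idx) (epos : Fin m → D.idx)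
    (y : Fin n → B) (t : TPt D.M B) (x : Fin m → B) :
    srcPt D s y t x ≫ RedSub.cellMap D eneg epos =
      c.pts B ((List.ofFn fun k => (c.datum D).uu (eneg k) B (y k)).prod *
        ((c.datum D).i B t * (List.ofFn fun l => (c.datum D).uu (epos l) B (x l)).prod)) := by
  rw [srcPt, srcPtB, lift_cellMap, map_mul, map_mul, pts_i' D s c t, pts_prod, pts_prod]

/-- the value of an `S`-point of `G` at `Spec B` -/
noncomputable def secPt (c : Chart G s) (B : Type u) [CommRing B] [Algebra R B]
    (g : 𝟙_ (Over S) ⟶ G) : Pt R c.A B := (c.pts B).symm (toUnit (tB s B) ≫ g)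

lemma pts_secPt (c : Chart G s) (g : 𝟙_ (Over S) ⟶ G) :
    c.pts B (secPt s c B g) = toUnit (tB s B) ≫ g := MulEquiv.apply_symm_apply _ _

lemma secPt_mul (c : Chart G s) (g h : 𝟙_ (Over S) ⟶ G) :
    secPt s c B (g * h) = secPt s c B g * secPt s c B h := by
  apply (c.pts B).injective
  rw [map_mul, pts_secPt, pts_secPt, pts_secPt, MonObj.comp_mul]

lemma secPt_one (c : Chart G s) : secPt s c B (1 : 𝟙_ (Over S) ⟶ G) = 1 := by
  apply (c.pts B).injective
  rw [map_one, pts_secPt, MonObj.comp_one]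

lemma secPt_list_prod (c : Chart G s) (l : List (𝟙_ (Over S) ⟶ G)) :
    secPt s c B l.prod = (l.map (secPt s c B)).prod := by
  induction l with
  | nil => exact secPt_one s c
  | cons a l ih => rw [List.prod_cons, secPt_mul, ih, List.map_cons, List.prod_cons]

/-- the Bruhat map in coordinates -/
lemma srcPt_bruhatMap (c : Chart G s) (nr : D.idx → (𝟙_ (Over S) ⟶ G)) (w : List D.idx) {n m : ℕ}
    (e : Fin n → D.idx) (epos : Fin m → D.idx)
    (y : Fin n → B) (t : TPt D.M B) (x : Fin m → B) :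
    srcPt D s y t x ≫ RedSub.bruhatMap D nr w e epos =
      c.pts B ((List.ofFn fun k => (c.datum D).uu (e k) B (y k)).prod *
        (((w.map nr).map (secPt s c B)).prod *
        ((c.datum D).i B t * (List.ofFn fun l => (c.datum D).uu (epos l) B (x l)).prod))) := by
  rw [srcPt, srcPtB, lift_bruhatMap, map_mul, map_mul, map_mul, pts_i' D s c t, pts_prod, pts_prod,
    ← secPt_list_prod, pts_secPt]

end pts

end Groth.Agent.RedSub.H633.CellPtsR
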