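import Groth.Prelude.Def_RedSub
import Groth.Agent.Sga3B.PinComb829

/-!
# Positive and negative roots of a base, in terms of the height
-/

set_option autoImplicit false
universe u

namespace Groth.Agent.RedSub.H633.PosRoots

open Groth.Agent.Sga3B

section gen

variable {idx M N : Type} [AddCommGroup M] [AddCommGroup N] {P : RootPairing idx ℤ M N} (b : P.Base)

/-- elements of the monoid generated by the simple roots -/
lemma exists_sum_of_mem_closure {x : M}
    (h : x ∈ AddSubmonoid.closure (P.root '' (b.support : Set idx))) :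
    ∃ f : idx → ℤ, (∀ j, 0 ≤ f j) ∧ x = ∑ j ∈ b.support, f j • P.root j := by
  classical
  induction h using AddSubmonoid.closure_induction with
  | mem x hx =>
    obtain ⟨i, hi, rfl⟩ := hx
    refine ⟨Pi.single i 1, fun j => ?_, ?_⟩
    · by_cases h : j = i
      · subst h; simp
      · simp [h]
    · rw [Finset.sum_eq_single_of_mem i hi (by simp_all)]; simp
  | zero => exact ⟨0, fun _ => le_refl _, by simp⟩
  | add x y _ _ hx hy =>
    obtain ⟨f, hf, rfl⟩ := hx
    obtain ⟨g, hg, rfl⟩ := hy
    exact ⟨f + g, fun j => add_nonneg (hf j) (hg j), by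
      simp only [Pi.add_apply, add_smul, Finset.sum_add_distrib]⟩

lemma height_pos_of_mem {a : idx} (h : a ∈ RedSub.posRoots P b) : 0 < b.height a := by
  obtain ⟨f, hf, hs⟩ := exists_sum_of_mem_closure b h
  have h1 : b.height a = ∑ j ∈ b.support, f j := RootPairing.Base.height_eq_sum hs
  have h2 := b.height_ne_zero a
  have h3 : 0 ≤ b.height a := by
    rw [h1]; exact Finset.sum_nonneg fun j _ => hf j
  omega

lemma height_neg_of_mem {a : idx} (h : a ∈ RedSub.negRoots P b) : b.height a < 0 := by
  obtain ⟨f, hf, hs⟩ := exists_sum_of_mem_closure b h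
  have h0 : P.root a = ∑ j ∈ b.support, (-f) j • P.root j := by
    rw [← neg_neg (P.root a), hs, ← Finset.sum_neg_distrib]
    exact Finset.sum_congr rfl fun j _ => by rw [Pi.neg_apply, neg_smul]
  have h1 : b.height a = ∑ j ∈ b.support, (-f) j := RootPairing.Base.height_eq_sum h0
  have h2 := b.height_ne_zero a
  have h3 : b.height a ≤ 0 := by
    rw [h1]; exact Finset.sum_nonpos fun j _ => by simpa using hf j
  omega

lemma mem_posRoots_or_mem_negRoots (a : idx) :
    a ∈ RedSub.posRoots P b ∨ a ∈ RedSub.negRoots P b := b.root_mem_or_neg_mem a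

theorem mem_posRoots_iff {a : idx} : a ∈ RedSub.posRoots P b ↔ 0 < b.height a := by
  refine ⟨height_pos_of_mem b, fun h => ?_⟩
  rcases mem_posRoots_or_mem_negRoots b a with h1 | h1
  · exact h1
  · have := height_neg_of_mem b h1
    omega

theorem mem_negRoots_iff {a : idx} : a ∈ RedSub.negRoots P b ↔ b.height a < 0 := by
  refine ⟨height_neg_of_mem b, fun h => ?_⟩
  rcases mem_posRoots_or_mem_negRoots b a with h1 | h1
  · have := height_pos_of_mem b h1
    omega
  · exact h1

theorem mem_posRoots_iff_isPos {a : idx} : a ∈ RedSub.posRoots P b ↔ b.IsPos a :=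
  mem_posRoots_iff b

theorem mem_negRoots_iff_not_mem {a : idx} : a ∈ RedSub.negRoots P b ↔ a ∉ RedSub.posRoots P b := by
  rw [mem_negRoots_iff, mem_posRoots_iff]
  have := b.height_ne_zero a
  omega

end gen

section functional

variable {idx M N : Type} [Finite idx] [AddCommGroup M] [Module.Free ℤ M] [Module.Finite ℤ M] [AddCommGroup N]
  {P : RootPairing idx ℤ M N} (b : P.Base)

/-- A functional positive on the positive roots and negative on the negative roots. -/
theorem exists_lam : ∃ lam : M →+ ℤ, (∀ a, lam (P.root a) ≠ 0) ∧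
    (∀ a, a ∈ RedSub.posRoots P b ↔ 0 < lam (P.root a)) ∧
    (∀ a, a ∈ RedSub.negRoots P b ↔ lam (P.root a) < 0) := by
  obtain ⟨lam, n, hn, h⟩ := PinComb.exists_height_functional b
  refine ⟨lam, fun a => ?_, fun a => ?_, fun a => ?_⟩
  · rw [h]
    exact mul_ne_zero hn.ne' (b.height_ne_zero a)
  · rw [mem_posRoots_iff, h]
    exact (mul_pos_iff_of_pos_left hn).symm
  · rw [mem_negRoots_iff, h]
    constructor
    · intro h'
      exact mul_neg_of_pos_of_neg hn h'
    · intro h'
      by_contra hc
      have := mul_nonneg hn.le (not_lt.mp hc)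
      linarith

end functional

end Groth.Agent.RedSub.H633.PosRoots
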