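import Groth.Agent.Sga3B.CellOpen

/-!
# The big cell for an arbitrary sorted list of the roots

`Sorted D k L`: `L` lists every root exactly once, the roots with `k a < 0` before the ones with `0 < k a`
(in any order inside the two parts).  For such lists the cell map `D.phi L` is étale and an epimorphism, and its
image does not depend on `L`.
-/

set_option autoImplicit false
universe u

open LaurentPolynomial TensorProduct

namespace Groth.Agent.RedSub.H633.SortedCell

open Groth.Agent.Sga3B Groth.Agent.Sga3B.Cell Groth.Agent.Sga3B.Cell.Datum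

variable {R A : Type u} [CommRing R] [CommRing A] [Algebra R A] [PtGrp R A] {D : Datum R A}

/-- the list of all roots, the negative ones first -/
structure Sorted (D : Datum R A) (k : D.idx → ℤ) (L : List D.idx) : Prop where
  nodup : L.Nodup
  mem : ∀ a, a ∈ L
  split : ∃ L₁ L₂, L = L₁ ++ L₂ ∧ (∀ a ∈ L₁, k a < 0) ∧ (∀ a ∈ L₂, 0 < k a)

variable {B : Type u} [CommRing B] [Algebra R B]

lemma prod_eq_one {l : List D.idx} {y : D.idx → B} (hy : ∀ a ∈ l, y a = 0) :
    (l.map (fun a => D.uu a B (y a))).prod = 1 := by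
  apply List.prod_eq_one
  intro z hz
  obtain ⟨a, ha, rfl⟩ := List.mem_map.mp hz
  rw [hy a ha, D.uu_zero]

lemma map_congr' {l : List D.idx} {y z : D.idx → B} (h : ∀ a ∈ l, y a = z a) :
    (l.map (fun a => D.uu a B (y a))) = (l.map (fun a => D.uu a B (z a))) := by
  apply List.map_congr_left
  intro a ha
  rw [h a ha]

lemma Sorted.cell_split {k : D.idx → ℤ} {L : List D.idx} (hL : Sorted D k L) (x : D.idx → B)
    (t : TPt D.M B) : D.cell L x t =
      D.cell L (negP k x) 1 * (D.cell L (posP k x) 1 * D.i B t) := by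
  obtain ⟨L₁, L₂, rfl, h1, h2⟩ := hL.split
  have e1 : (L₁.map (fun a => D.uu a B (posP k x a))).prod = 1 :=
    prod_eq_one fun a ha => if_pos (h1 a ha)
  have e2 : (L₂.map (fun a => D.uu a B (negP k x a))).prod = 1 :=
    prod_eq_one fun a ha => if_neg (not_lt.mpr (h2 a ha).le)
  have e3 : (L₁.map (fun a => D.uu a B (negP k x a))) = (L₁.map (fun a => D.uu a B (x a))) :=
    map_congr' fun a ha => if_pos (h1 a ha)
  have e4 : (L₂.map (fun a => D.uu a B (posP k x a))) = (L₂.map (fun a => D.uu a B (x a))) :=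
    map_congr' fun a ha => if_neg (not_lt.mpr (h2 a ha).le)
  unfold cell
  rw [List.map_append, List.prod_append, List.map_append, List.prod_append, List.map_append,
    List.prod_append, e1, e2, e3, e4, map_one, one_mul, mul_one, mul_one, mul_one, mul_assoc]

/-- The big cell map is injective on points, over any ring. -/
theorem Sorted.inj (hG : D.Good) (lam : D.M →+ ℤ) (hlam : ∀ a, lam (D.root a) ≠ 0)
    {L : List D.idx} (hL : Sorted D (fun a => lam (D.root a)) L)
    {x x' : D.idx → B} {t t' : TPt D.M B}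
    (h : D.cell L x t = D.cell L x' t') : x = x' ∧ t = t' := by
  set k : D.idx → ℤ := fun a => lam (D.root a) with hkdef
  obtain ⟨δ, hδ, hδ0⟩ := hG L hL.nodup hL.mem
  rw [hL.cell_split x, hL.cell_split x', ← cell_eq_mul_i D _ (posP k x) t,
    ← cell_eq_mul_i D _ (posP k x') t'] at h
  obtain ⟨h1, h2, h3⟩ := bigCell_inj (k := k) hδ hδ0 lam (fun a => rfl) (negP_zero k x)
    (posP_zero hlam x) (negP_zero k x') (posP_zero hlam x') h
  refine ⟨?_, h3⟩
  funext a
  rw [← negP_add_posP k x a, ← negP_add_posP k x' a, h1, h2]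

/-- the group of products of root group elements of positive weight does not depend on the list -/
theorem UP_congr {L L' : List D.idx} {δ δ' : D.CR} (hδ : D.EtOn L δ) (hδ0 : D.ev0 δ = 1)
    (hδ' : D.EtOn L' δ') (hδ0' : D.ev0 δ' = 1) {k : D.idx → ℤ} {θ : TPt D.M B[T;T⁻¹]}
    (hθ : ∀ a, TPt.ch (D.root a) θ = T (k a)) : D.UP L k B = D.UP L' k B := by
  ext g
  rw [mem_UP_iff hδ hδ0 hθ, mem_UP_iff hδ' hδ0' hθ]

/-- the group of products of root group elements of positive weight does not depend on the list -/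
theorem UP_congr_of_good (hG : D.Good) (lam : D.M →+ ℤ) {L L' : List D.idx} (hL : L.Nodup)
    (hLm : ∀ a, a ∈ L) (hL' : L'.Nodup) (hLm' : ∀ a, a ∈ L') :
    D.UP L (fun a => lam (D.root a)) B = D.UP L' (fun a => lam (D.root a)) B := by
  obtain ⟨δ, hδ, hδ0⟩ := hG L hL hLm
  obtain ⟨δ', hδ', hδ0'⟩ := hG L' hL' hLm'
  exact UP_congr hδ hδ0 hδ' hδ0' (θ := D.cochar lam) (fun a => rfl)

lemma eq_negP {k : D.idx → ℤ} {y z : D.idx → B} (hy : ∀ a, -k a ≤ 0 → y a = 0) :
    negP k (fun a => if k a < 0 then y a else z a) = y := by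
  funext a
  unfold negP
  by_cases ha : k a < 0
  · simp [ha]
  · rw [if_neg ha, hy a (by omega)]

lemma eq_posP {k : D.idx → ℤ} {y z : D.idx → B} (hz : ∀ a, k a ≤ 0 → z a = 0) :
    posP k (fun a => if k a < 0 then y a else z a) = z := by
  funext a
  unfold posP
  by_cases ha : k a < 0
  · rw [if_pos ha, hz a ha.le]
  · simp [ha]

/-- Points of the big cell for one sorted list are points of the big cell for any other. -/
theorem Sorted.exists_eq (hG : D.Good) (lam : D.M →+ ℤ) (hlam : ∀ a, lam (D.root a) ≠ 0)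
    {L L' : List D.idx} (hL : Sorted D (fun a => lam (D.root a)) L)
    (hL' : Sorted D (fun a => lam (D.root a)) L') (x : D.idx → B) (t : TPt D.M B) :
    ∃ x' : D.idx → B, D.cell L x t = D.cell L' x' t := by
  set k : D.idx → ℤ := fun a => lam (D.root a) with hkdef
  have h1 : D.cell L (negP k x) 1 ∈ D.UP L (fun a => -k a) B := ⟨_, negP_zero k x, rfl⟩
  have h2 : D.cell L (posP k x) 1 ∈ D.UP L k B := ⟨_, posP_zero hlam x, rfl⟩
  have e1 : D.UP L (fun a => -k a) B = D.UP L' (fun a => -k a) B :=
    UP_congr_of_good hG (-lam) hL.nodup hL.mem hL'.nodup hL'.mem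
  have e2 : D.UP L k B = D.UP L' k B :=
    UP_congr_of_good hG lam hL.nodup hL.mem hL'.nodup hL'.mem
  rw [e1] at h1
  rw [e2] at h2
  obtain ⟨y, hy0, hy⟩ := h1
  obtain ⟨z, hz0, hz⟩ := h2
  refine ⟨fun a => if k a < 0 then y a else z a, ?_⟩
  rw [hL.cell_split, hL'.cell_split, eq_negP hy0, eq_posP hz0, ← hy, ← hz]

/-- infinitesimal lifting for the big cell -/
theorem Sorted.exists_lift (hG : D.Good) (lam : D.M →+ ℤ) (hlam : ∀ a, lam (D.root a) ≠ 0)
    {L : List D.idx} (hL : Sorted D (fun a => lam (D.root a)) L)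
    {I : Ideal B} (hI : I ^ 2 = ⊥) {x₀ : D.idx → B ⧸ I} {t₀ : TPt D.M (B ⧸ I)} {g : Pt R A B}
    (h : D.cell L x₀ t₀ = Pt.map (Ideal.Quotient.mkₐ R I) g) :
    ∃ (x : D.idx → B) (t : TPt D.M B), (∀ a, Ideal.Quotient.mk I (x a) = x₀ a) ∧
      TPt.map (Ideal.Quotient.mkₐ R I) t = t₀ ∧ D.cell L x t = g := by
  have hS : Sorted D (fun a => lam (D.root a)) (D.signList fun a => lam (D.root a)) :=
    ⟨D.signList_nodup _, D.mem_signList _, _, _, rfl, fun a ha => by
      rw [Finset.mem_toList, Finset.mem_filter] at ha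
      exact ha.2, fun a ha => by
      rw [Finset.mem_toList, Finset.mem_filter] at ha
      exact lt_of_le_of_ne (not_lt.mp ha.2) (hlam a).symm⟩
  obtain ⟨x₁, hx₁⟩ := hL.exists_eq hG lam hlam hS x₀ t₀
  obtain ⟨x₂, t, hx₂, ht, hg⟩ := signCell_lift hG lam hlam hI (hx₁.symm.trans h)
  obtain ⟨x, hx⟩ := hS.exists_eq hG lam hlam hL x₂ t
  refine ⟨x, t, ?_, ht, hx.symm.trans hg⟩
  have h3 : D.cell L (fun a => Ideal.Quotient.mkₐ R I (x a)) (TPt.map (Ideal.Quotient.mkₐ R I) t) =
      D.cell L x₀ t₀ := by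
    rw [← cell_nat, ← hx, hg, h]
  exact fun a => congrFun (hL.inj hG lam hlam h3).1 a

/-- The big cell map is étale. -/
theorem Sorted.etale [Algebra.FiniteType R A] (hG : D.Good) (lam : D.M →+ ℤ)
    (hlam : ∀ a, lam (D.root a) ≠ 0) {L : List D.idx}
    (hL : Sorted D (fun a => lam (D.root a)) L) : (D.phi L : A →+* D.CR).Etale := by
  let _ : Algebra A D.CR := (D.phi L : A →+* D.CR).toAlgebra
  have hT : IsScalarTower R A D.CR := .of_algebraMap_eq fun r => ((D.phi L).commutes r).symm
  have hfp : Algebra.FinitePresentation A D.CR :=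
    Algebra.FinitePresentation.of_restrict_scalars_finitePresentation R A D.CR
  have hfe : Algebra.FormallyEtale A D.CR := by
    rw [Algebra.FormallyEtale.iff_comp_bijective]
    intro B _ _ I hI
    let _ : Algebra R B := ((algebraMap A B).comp (algebraMap R A)).toAlgebra
    have hTB : IsScalarTower R A B := .of_algebraMap_eq fun r => rfl
    let gB : Pt R A B := Pt.mk (IsScalarTower.toAlgHom R A B)
    have hcell : ∀ (C : Type u) [CommRing C] [Algebra A C] [Algebra R C] [IsScalarTower R A C]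
        (f : D.CR →ₐ[A] C), D.cell L (fun a => f (MvPolynomial.X a))
          (TPt.map (f.restrictScalars R) D.tU) = Pt.mk (IsScalarTower.toAlgHom R A C) := by
      intro C _ _ _ _ f
      apply Pt.ext
      intro z
      rw [← ev_phi]
      have h1 := D.eq_ev (f.restrictScalars R)
      have h2 : D.ev (fun a => f (MvPolynomial.X a)) (TPt.map (f.restrictScalars R) D.tU) =
        f.restrictScalars R := h1.symm
      rw [h2]
      exact f.commutes z
    constructor
    · intro f f' _
      have h1 := (hcell B f).trans (hcell B f').symm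
      obtain ⟨h2, h3⟩ := hL.inj hG lam hlam h1
      have h4 : f.restrictScalars R = f'.restrictScalars R := by
        rw [D.eq_ev (f.restrictScalars R), D.eq_ev (f'.restrictScalars R), h3]
        congr 1
      apply AlgHom.ext
      intro z
      exact congrArg (fun k : D.CR →ₐ[R] B => k z) h4
    · intro f₀
      have h1 := hcell (B ⧸ I) f₀
      obtain ⟨x, t, hx, ht, hg⟩ := hL.exists_lift hG lam hlam hI (g := gB) h1
      let f : D.CR →ₐ[A] B :=
        { (D.ev x t : D.CR →+* B) with
          commutes' := fun z => by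
            change D.ev x t (D.phi L z) = algebraMap A B z
            rw [ev_phi, hg]
            rfl }
      refine ⟨f, ?_⟩
      have h4 : ((Ideal.Quotient.mkₐ R I).comp (D.ev x t)) = f₀.restrictScalars R := by
        rw [D.comp_ev, D.eq_ev (f₀.restrictScalars R), ht]
        congr 1
        funext a
        exact hx a
      apply AlgHom.ext
      intro z
      exact congrArg (fun k : D.CR →ₐ[R] B ⧸ I => k z) h4
  exact ⟨hfe, hfp⟩

/-- The big cell map is an epimorphism of rings. -/
lemma Sorted.algHom_ext (hG : D.Good) (lam : D.M →+ ℤ) (hlam : ∀ a, lam (D.root a) ≠ 0)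
    {L : List D.idx} (hL : Sorted D (fun a => lam (D.root a)) L)
    {C : Type u} [CommRing C] [Algebra R C] (f₁ f₂ : D.CR →ₐ[R] C)
    (h : ∀ a, f₁ (D.phi L a) = f₂ (D.phi L a)) : f₁ = f₂ := by
  have e1 := cell_of_algHom L f₁ (Pt.mk (f₁.comp (D.phi L))) (fun a => rfl)
  have e2 := cell_of_algHom L f₂ (Pt.mk (f₁.comp (D.phi L))) (fun a => (h a).symm)
  obtain ⟨h2, h3⟩ := hL.inj hG lam hlam (e1.trans e2.symm)
  rw [D.eq_ev f₁, D.eq_ev f₂, h3]
  congr 1

/-- The big cell map is an epimorphism in the category of commutative rings. -/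
theorem Sorted.epi (hG : D.Good) (lam : D.M →+ ℤ) (hlam : ∀ a, lam (D.root a) ≠ 0)
    {L : List D.idx} (hL : Sorted D (fun a => lam (D.root a)) L) :
    CategoryTheory.Epi (CommRingCat.ofHom (D.phi L : A →+* D.CR)) := by
  constructor
  intro Z f g hfg
  have hfg' : f.hom.comp (D.phi L : A →+* D.CR) = g.hom.comp (D.phi L : A →+* D.CR) :=
    congrArg CommRingCat.Hom.hom hfg
  letI : Algebra R Z := (f.hom.comp (algebraMap R D.CR)).toAlgebra
  let f' : D.CR →ₐ[R] Z := { f.hom with commutes' := fun c => rfl }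
  let g' : D.CR →ₐ[R] Z :=
    { g.hom with
      commutes' := by
        intro c
        have h1 := RingHom.congr_fun hfg' (algebraMap R A c)
        have h2 : (D.phi L : A →+* D.CR) (algebraMap R A c) = algebraMap R _ c :=
          AlgHom.commutes (D.phi L) c
        rw [RingHom.comp_apply, RingHom.comp_apply, h2] at h1
        exact h1.symm }
  have h3 : f' = g' := hL.algHom_ext hG lam hlam f' g' fun a => RingHom.congr_fun hfg' a
  apply CommRingCat.hom_ext
  apply RingHom.ext
  intro b
  exact DFunLike.congr_fun h3 b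

/-- the image of the big cell in the spectrum does not depend on the sorted list -/
theorem Sorted.range_le (hG : D.Good) (lam : D.M →+ ℤ) (hlam : ∀ a, lam (D.root a) ≠ 0)
    {L L' : List D.idx} (hL : Sorted D (fun a => lam (D.root a)) L)
    (hL' : Sorted D (fun a => lam (D.root a)) L') :
    Set.range (PrimeSpectrum.comap (D.phi L : A →+* D.CR)) ⊆
      Set.range (PrimeSpectrum.comap (D.phi L' : A →+* D.CR)) := by
  obtain ⟨x', hx'⟩ := hL.exists_eq hG lam hlam hL' D.xU D.tU
  have h1 : D.phi L = (D.ev x' D.tU).comp (D.phi L') := by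
    rw [D.ev_comp_phi, ← hx']
    rfl
  rintro _ ⟨q, rfl⟩
  refine ⟨PrimeSpectrum.comap (D.ev x' D.tU : D.CR →+* D.CR) q, ?_⟩
  rw [← PrimeSpectrum.comap_comp_apply]
  congr 1
  exact congrArg (fun f : A →ₐ[R] D.CR => (f : A →+* D.CR)) h1.symm

theorem Sorted.range_eq (hG : D.Good) (lam : D.M →+ ℤ) (hlam : ∀ a, lam (D.root a) ≠ 0)
    {L L' : List D.idx} (hL : Sorted D (fun a => lam (D.root a)) L)
    (hL' : Sorted D (fun a => lam (D.root a)) L') :
    Set.range (PrimeSpectrum.comap (D.phi L : A →+* D.CR)) =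
      Set.range (PrimeSpectrum.comap (D.phi L' : A →+* D.CR)) :=
  Set.Subset.antisymm (hL.range_le hG lam hlam hL') (hL'.range_le hG lam hlam hL)

end Groth.Agent.RedSub.H633.SortedCell
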