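import Groth.Agent.RedSub.H633.CellPtsR
import Groth.Agent.RedSub.H633.SortedCell
import Groth.Agent.RedSub.H633.PosRoots
import Groth.Agent.Sga3B.ChartGood848
import Mathlib.AlgebraicGeometry.Morphisms.FlatMono
import Mathlib.RingTheory.RingHom.Etale

/-!
# The big cell as a scheme: chart of the source, étaleness, open immersion
-/

set_option autoImplicit false
universe u

open CategoryTheory MonoidalCategory CartesianMonoidalCategory MonObj GrpObj AlgebraicGeometry Limits

namespace Groth.Agent.RedSub.H633.CellSch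

open Groth.Agent.Sga3B Cell PinMod DSPts GaPts PowPts Chart CellPtsR AffChart SortedCell PosRoots
open Groth.Agent.Sga3B.Cell.Datum

/-- Two injective families with complementary ranges. -/
lemma exists_glue {J : Type} {B : Type u} {n m : ℕ} {e : Fin n → J} {e' : Fin m → J}
    (he : Function.Injective e) (he' : Function.Injective e')
    (hd : ∀ k l, e k ≠ e' l) (y : Fin n → B) (x : Fin m → B) (d : J → B) :
    ∃ z : J → B, (∀ k, z (e k) = y k) ∧ ∀ l, z (e' l) = x l := by
  classical
  refine ⟨fun a => if h : ∃ k, e k = a then y h.choose else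
    if h' : ∃ l, e' l = a then x h'.choose else d a, ?_, ?_⟩
  · intro k
    have h : ∃ k', e k' = e k := ⟨k, rfl⟩
    dsimp only
    rw [dif_pos h]
    exact congrArg y (he h.choose_spec)
  · intro l
    have h : ¬ ∃ k, e k = e' l := fun ⟨k, hk⟩ => hd k l hk
    have h' : ∃ l', e' l' = e' l := ⟨l, rfl⟩
    dsimp only
    rw [dif_neg h, dif_pos h']
    exact congrArg x (he' h'.choose_spec)

section abs

variable {M : Type} [AddCommGroup M] {B : Type u} [CommRing B]

lemma ch_neg_mul (a : M) (t : TPt M B) (z : B) : TPt.ch a t * (TPt.ch (-a) t * z) = z := by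
  rw [← _root_.mul_assoc, ← TPt.ch_add, add_neg_cancel, TPt.ch_zero, _root_.one_mul]

lemma ch_mul_neg' (a : M) (t : TPt M B) (z : B) : TPt.ch (-a) t * (TPt.ch a t * z) = z := by
  rw [← _root_.mul_assoc, ← TPt.ch_add, neg_add_cancel, TPt.ch_zero, _root_.one_mul]

variable {R A : Type u} [CommRing R] [CommRing A] [Algebra R A] [PtGrp R A] (E : Datum R A)
  [Algebra R B] {n m : ℕ}

/-- the cell of a list `ofFn e ++ ofFn e'` with the torus moved to the middle -/
lemma cell_ofFn (e : Fin n → E.idx) (e' : Fin m → E.idx) (z : E.idx → B) (t : TPt E.M B) :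
    E.cell (List.ofFn e ++ List.ofFn e') z t =
      (List.ofFn fun k => E.uu (e k) B (z (e k))).prod *
        (E.i B t * (List.ofFn fun l => E.uu (e' l) B (TPt.ch (-(E.root (e' l))) t * z (e' l))).prod) := by
  have h1 := i_mul_prod E (B := B) (List.ofFn e')
    (fun a => TPt.ch (-(E.root a)) t * z a) t
  rw [List.map_ofFn, List.map_ofFn] at h1
  change E.i B t * (List.ofFn fun l => E.uu (e' l) B (TPt.ch (-(E.root (e' l))) t * z (e' l))).prod =
    (List.ofFn fun l => E.uu (e' l) B (TPt.ch (E.root (e' l)) t *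
      (TPt.ch (-(E.root (e' l))) t * z (e' l)))).prod * E.i B t at h1
  rw [h1]
  unfold Datum.cell
  rw [List.map_append, List.prod_append, List.map_ofFn, List.map_ofFn, _root_.mul_assoc]
  congr 3
  · congr 1
    funext l
    rw [ch_neg_mul]
    rfl

end abs

variable {S : Scheme.{u}} {G : Over S} [GrpObj G] (D : Red.SplitRed G)
  {R : Type u} [CommRing R] (s : Spec (CommRingCat.of R) ⟶ S) (c : Chart G s)
  {n m : ℕ} (eneg : Fin n → D.idx) (epos : Fin m → D.idx)

theorem isAffineHom_T : IsAffineHom D.T.hom := by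
  have := isAffineHom_DS (S := S) D.M
  have h : IsIso (splitHom D) := ⟨splitInv D, splitHom_inv D, splitInv_hom D⟩
  exact isAffineHom_of_iso (splitHom D)

/-- the source of the cell map is affine over `S` -/
theorem isAffineHom_src : IsAffineHom
    (RedSub.pow (Red.Ga S) n ⊗ (D.T ⊗ RedSub.pow (Red.Ga S) m) : Over S).hom := by
  have h1 := isAffineHom_Ga (S := S)
  have h2 := isAffineHom_pow (Red.Ga S) n
  have h3 := isAffineHom_pow (Red.Ga S) m
  have h4 := isAffineHom_T D
  have h5 := isAffineHom_tensor D.T (RedSub.pow (Red.Ga S) m)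
  exact isAffineHom_tensor _ _

/-- the list of the roots: first `eneg`, then `epos` -/
def lst : List D.idx := List.ofFn eneg ++ List.ofFn epos

section cellpt

variable {B : Type u} [CommRing B] [Algebra R B]

/-- The point of the source of the cell map which is mapped to `E.cell (lst) z t`. -/
noncomputable def cellPt (z : D.idx → B) (t : TPt D.M B) :
    tB s B ⟶ RedSub.pow (Red.Ga S) n ⊗ (D.T ⊗ RedSub.pow (Red.Ga S) m) :=
  srcPt D s (fun k => z (eneg k)) t
    (fun l => TPt.ch (-(D.P.root (epos l))) t * z (epos l))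

/-- the cell map on `cellPt` -/
lemma cellPt_cellMap (z : D.idx → B) (t : TPt D.M B) :
    cellPt D s eneg epos z t ≫ RedSub.cellMap D eneg epos =
      c.pts B ((c.datum D).cell (lst D eneg epos) z t) := by
  have h := cell_ofFn (c.datum D) eneg epos z t
  rw [cellPt, srcPt_cellMap D s c]
  exact congrArg (c.pts B) h.symm

lemma tMap_cellPt {C : Type u} [CommRing C] [Algebra R C] (φ : B →ₐ[R] C) (z : D.idx → B)
    (t : TPt D.M B) : tMap s φ ≫ cellPt D s eneg epos z t =
      cellPt D s eneg epos (fun a => φ (z a)) (TPt.map φ t) := by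
  rw [cellPt, tMap_srcPt, cellPt]
  congr 1
  funext l
  rw [map_mul, TPt.ch_map]

end cellpt

variable {D eneg epos}
variable (hneg : Function.Injective eneg) (hpos : Function.Injective epos)
  (hcomp : ∀ a, a ∈ Set.range eneg ↔ a ∉ Set.range epos)

section bij

include hcomp in
lemma disj (k : Fin n) (l : Fin m) : eneg k ≠ epos l := fun h =>
  (hcomp (eneg k)).1 ⟨k, rfl⟩ ⟨l, h.symm⟩

include hcomp in
lemma mem_lst (a : D.idx) : a ∈ lst D eneg epos := by
  unfold lst
  rw [List.mem_append, List.mem_ofFn, List.mem_ofFn]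
  by_cases ha : a ∈ Set.range epos
  · exact Or.inr ha
  · exact Or.inl ((hcomp a).2 ha)

include hneg hpos hcomp

lemma cellPt_injective {B : Type u} [CommRing B] [Algebra R B] {z z' : D.idx → B}
    {t t' : TPt D.M B} (h : cellPt D s eneg epos z t = cellPt D s eneg epos z' t') :
    z = z' ∧ t = t' := by
  obtain ⟨h1, h2, h3⟩ := srcPt_injective D s h
  refine ⟨?_, h2⟩
  subst h2
  funext a
  by_cases ha : a ∈ Set.range epos
  · obtain ⟨l, rfl⟩ := ha
    have h4 : TPt.ch (-(D.P.root (epos l))) t * z (epos l) =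
      TPt.ch (-(D.P.root (epos l))) t * z' (epos l) := congrFun h3 l
    rw [← ch_neg_mul (D.P.root (epos l)) t (z (epos l)), h4, ch_neg_mul]
  · obtain ⟨k, rfl⟩ := (hcomp a).2 ha
    exact congrFun h1 k

lemma exists_cellPt {B : Type u} [CommRing B] [Algebra R B]
    (w : tB s B ⟶ RedSub.pow (Red.Ga S) n ⊗ (D.T ⊗ RedSub.pow (Red.Ga S) m)) :
    ∃ (z : D.idx → B) (t : TPt D.M B), w = cellPt D s eneg epos z t := by
  obtain ⟨y, t, x, rfl⟩ := exists_srcPt D s w
  obtain ⟨z, hz1, hz2⟩ := exists_glue (J := D.idx) hneg hpos (disj hcomp) y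
    (fun l => TPt.ch (D.P.root (epos l)) t * x l) (fun _ => 0)
  refine ⟨z, t, ?_⟩
  rw [cellPt]
  congr 1
  · funext k; exact (hz1 k).symm
  · funext l
    rw [hz2, ch_mul_neg']

lemma lst_nodup : (lst D eneg epos).Nodup := by
  unfold lst
  rw [List.nodup_append]
  refine ⟨List.nodup_ofFn.mpr hneg, List.nodup_ofFn.mpr hpos, ?_⟩
  intro a ha b hb
  rw [List.mem_ofFn] at ha hb
  obtain ⟨k, rfl⟩ := ha
  obtain ⟨l, rfl⟩ := hb
  exact disj hcomp k l

/-- the universal point of the source -/
noncomputable def univPt (D : Red.SplitRed G) (c : Chart G s) (eneg : Fin n → D.idx)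
    (epos : Fin m → D.idx) :
    tB s (c.datum D).CR ⟶ RedSub.pow (Red.Ga S) n ⊗ (D.T ⊗ RedSub.pow (Red.Ga S) m) :=
  cellPt D s eneg epos (c.datum D).xU (c.datum D).tU

lemma univPt_bijective (B : Type u) [CommRing B] [Algebra R B] :
    Function.Bijective (fun f : (c.datum D).CR →ₐ[R] B => tMap s f ≫ univPt s D c eneg epos) := by
  constructor
  · intro f g h
    simp only [univPt, tMap_cellPt] at h
    obtain ⟨h1, h2⟩ := cellPt_injective s hneg hpos hcomp h
    have hf := (c.datum D).eq_ev f
    have hg := (c.datum D).eq_ev g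
    rw [hf, hg]
    congr 1
  · intro w
    obtain ⟨z, t, rfl⟩ := exists_cellPt (R := R) s hneg hpos hcomp w
    refine ⟨(c.datum D).ev z t, ?_⟩
    simp only [univPt, tMap_cellPt]
    congr 1
    · funext a
      exact (c.datum D).ev_xU z t a
    · exact (c.datum D).map_ev_tU z t

/-- the chart of the source of the cell map -/
theorem isPullback_src : IsPullback (univPt s D c eneg epos).left
    (Spec.map (CommRingCat.ofHom (algebraMap R (c.datum D).CR)))
    (RedSub.pow (Red.Ga S) n ⊗ (D.T ⊗ RedSub.pow (Red.Ga S) m) : Over S).hom s := by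
  have := isAffineHom_src (n := n) (m := m) D
  exact isPullback_of_bijective s _ _ (univPt_bijective s c hneg hpos hcomp)

/-- the cell map in a chart -/
theorem isPullback_cellMap : IsPullback (univPt s D c eneg epos).left
    (Spec.map (CommRingCat.ofHom ((c.datum D).phi (lst D eneg epos) : c.A →+* (c.datum D).CR)))
    (RedSub.cellMap D eneg epos).left c.p := by
  refine IsPullback.of_bot ?_ ?_ c.isPullback
  · rw [← Spec.map_comp, ← CommRingCat.ofHom_comp, AlgHom.comp_algebraMap, Over.w]
    exact isPullback_src s c hneg hpos hcomp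
  · have h1 := cellPt_cellMap D s c eneg epos (B := (c.datum D).CR) (c.datum D).xU (c.datum D).tU
    have h2 := congrArg (fun f => f.left) h1
    simp only [Over.comp_left] at h2
    rw [c.pts_left] at h2
    exact h2

end bij

/-- In a chart the cell map is an open immersion. -/
theorem isOpenImmersion_chart (lam : D.M →+ ℤ) (hlam : ∀ a, lam (D.P.root a) ≠ 0)
    {L : List D.idx} (hL : Sorted (c.datum D) (fun a => lam (D.P.root a)) L) :
    IsOpenImmersion (Spec.map (CommRingCat.ofHom
      ((c.datum D).phi L : c.A →+* (c.datum D).CR))) := by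
  have hG := c.good848 D
  have hsm := c.smooth848 D
  have het := hL.etale hG lam hlam
  have hepi := hL.epi hG lam hlam
  have hfl : ((c.datum D).phi L : c.A →+* (c.datum D).CR).Flat := by
    let _ : Algebra c.A (c.datum D).CR := ((c.datum D).phi L : c.A →+* (c.datum D).CR).toAlgebra
    have h1 : Algebra.Etale c.A (c.datum D).CR := het
    have h2 : Module.Flat c.A (c.datum D).CR := inferInstance
    exact h2
  have hfp : ((c.datum D).phi L : c.A →+* (c.datum D).CR).FinitePresentation := by
    let _ : Algebra c.A (c.datum D).CR := ((c.datum D).phi L : c.A →+* (c.datum D).CR).toAlgebra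
    have h1 : Algebra.Etale c.A (c.datum D).CR := het
    have h2 : Algebra.FinitePresentation c.A (c.datum D).CR := inferInstance
    exact h2
  have : Flat (Spec.map (CommRingCat.ofHom
      ((c.datum D).phi L : c.A →+* (c.datum D).CR))) := Flat.SpecMap_iff.2 hfl
  have : LocallyOfFinitePresentation (Spec.map (CommRingCat.ofHom
      ((c.datum D).phi L : c.A →+* (c.datum D).CR))) :=
    (LocallyOfFinitePresentation.SpecMap_iff _).2 hfp
  have : Mono (Spec.map (CommRingCat.ofHom
      ((c.datum D).phi L : c.A →+* (c.datum D).CR))) :=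
    inferInstanceAs (Mono (Scheme.Spec.map (CommRingCat.ofHom
      ((c.datum D).phi L : c.A →+* (c.datum D).CR)).op))
  exact IsOpenImmersion.of_flat_of_mono _

/-- Every point of `G` lies in a chart over an affine open of `S`. -/
theorem exists_chart_cover (D : Red.SplitRed G) (x : G.left) : ∃ (R : Type u) (_ : CommRing R)
    (s : Spec (CommRingCat.of R) ⟶ S) (c : Chart G s), IsOpenImmersion s ∧ IsOpenImmersion c.p ∧
      x ∈ Set.range c.p := by
  have := D.reductive.1
  let 𝒰 := S.affineOpenCover
  let R := 𝒰.X (𝒰.idx (G.hom x))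
  let s : Spec (CommRingCat.of R) ⟶ S := 𝒰.f (𝒰.idx (G.hom x))
  have hs : IsOpenImmersion s := 𝒰.map_prop _
  have hx : G.hom x ∈ Set.range s := 𝒰.covers (G.hom x)
  obtain ⟨c⟩ := exists_chart G s
  refine ⟨R, inferInstance, s, c, hs, ?_, ?_⟩
  · exact MorphismProperty.of_isPullback (P := @IsOpenImmersion) c.isPullback.flip hs
  · obtain ⟨y, hy⟩ := hx
    obtain ⟨w, hw1, hw2⟩ := Scheme.Pullback.exists_preimage_pullback x y hy.symm
    refine ⟨c.isPullback.isoPullback.inv w, ?_⟩
    rw [← hw1, ← Scheme.Hom.comp_apply, c.isPullback.isoPullback_inv_fst]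

end Groth.Agent.RedSub.H633.CellSch
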