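import Groth.Agent.RedSub.H638.WeylCover

/-!
# Simply connected pinned groups: generation by the simple root groups

For `E : PinCell P b R A`:
* `cow_mem`: the torus point `α^∨(v)`, `α` simple, lies in the subgroup generated by the points of the
  root groups `U_{±α}`;
* `torus_mem`: if the coroots span the coweight lattice, the whole torus lies in the subgroup generated
  by the simple root groups and their opposites;
* `simpleGen_eq_top_local`: over a local ring this subgroup is everything.
-/

set_option autoImplicit false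
set_option linter.unusedSectionVars false
universe u

namespace Groth.Agent.RedSub.H633.CorootGen

open Groth.Agent.Sga3B Groth.Agent.Sga3B.Cell Groth.Agent.Sga3B.Word
open Groth.Agent.RedSub.H638.WeylBase Groth.Agent.RedSub.H638.WeylCover

variable {idx M : Type} [Fintype idx] [AddCommGroup M] [Module.Free ℤ M]
    [Module.Finite ℤ M] {P : RootPairing idx ℤ M (Module.Dual ℤ M)} {b : P.Base}
    {R A : Type u} [CommRing R] [CommRing A] [Algebra R A] [PtGrp R A] (E : PinCell P b R A)
    (B : Type u) [CommRing B] [Algebra R B]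

/-- The subgroup generated by the points of the simple root groups and their opposites. -/
def simpleGen : Subgroup (Pt R A B) :=
  Subgroup.closure {g | ∃ a ∈ b.support, ∃ x : B, g = E.uu a B x ∨ g = E.uu (P.reflectionPerm a a) B x}

variable {B}

lemma uu_mem {a : idx} (ha : a ∈ b.support) (x : B) : E.uu a B x ∈ simpleGen E B :=
  Subgroup.subset_closure ⟨a, ha, x, Or.inl rfl⟩

lemma uu_neg_mem {a : idx} (ha : a ∈ b.support) (x : B) :
    E.uu (P.reflectionPerm a a) B x ∈ simpleGen E B :=
  Subgroup.subset_closure ⟨a, ha, x, Or.inr rfl⟩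

lemma cow_mem {a : idx} (ha : a ∈ b.support) (v : Bˣ) :
    E.i B (TPt.cow (P.coroot a) v) ∈ simpleGen E B := by
  have h := E.rank1 a ha (1 : B) ((v : B) - 1) v (by ring)
  have h2 : E.i B (TPt.cow (P.coroot a) v) =
      (E.uu (P.reflectionPerm a a) B ((v⁻¹ : Bˣ) * ((v : B) - 1)))⁻¹ *
        (E.uu a B 1 * E.uu (P.reflectionPerm a a) B ((v : B) - 1)) *
        (E.uu a B ((v⁻¹ : Bˣ) * (1 : B)))⁻¹ := by
    rw [h]; group
  rw [h2]
  exact mul_mem (mul_mem (inv_mem (uu_neg_mem E ha _)) (mul_mem (uu_mem E ha _) (uu_neg_mem E ha _)))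
    (inv_mem (uu_mem E ha _))

lemma cow_add (f g : Module.Dual ℤ M) (v : Bˣ) :
    TPt.cow (f + g) v = TPt.cow f v * TPt.cow g v := by
  ext m
  simp [TPt.cow, zpow_add]

lemma cow_zero (v : Bˣ) : TPt.cow (0 : Module.Dual ℤ M) v = 1 := by
  ext m
  simp [TPt.cow]

lemma cow_neg (f : Module.Dual ℤ M) (v : Bˣ) :
    TPt.cow (-f) v = (TPt.cow f v)⁻¹ := by
  ext m
  simp [TPt.cow]

/-- all cocharacters of the torus have their points in the subgroup -/
lemma cow_mem_of_span (hsc : Submodule.span ℤ (Set.range P.coroot) = ⊤) (f : Module.Dual ℤ M)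
    (v : Bˣ) : E.i B (TPt.cow f v) ∈ simpleGen E B := by
  have hf : f ∈ Submodule.span ℤ (P.coroot '' b.support) := by
    rw [b.span_int_coroot_support, hsc]; trivial
  induction hf using Submodule.span_induction with
  | mem x hx =>
    obtain ⟨a, ha, rfl⟩ := hx
    exact cow_mem E ha v
  | zero => rw [cow_zero, _root_.map_one]; exact one_mem _
  | add x y _ _ hx hy => rw [cow_add, _root_.map_mul]; exact mul_mem hx hy
  | smul n x _ hx =>
    have h : TPt.cow (n • x) v = (TPt.cow x v) ^ n := by
      ext m
      simp [TPt.cow, zpow_mul, mul_comm n]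
    have h3 : E.i B (TPt.cow x v ^ n) = (E.i B (TPt.cow x v)) ^ n := map_zpow (E.i B) _ n
    rw [h, h3]
    exact zpow_mem hx n

/-- if the coroots span the coweight lattice the torus is in the subgroup -/
lemma torus_mem (hsc : Submodule.span ℤ (Set.range P.coroot) = ⊤) (t : TPt M B) :
    E.i B t ∈ simpleGen E B := by
  classical
  let e := Module.Free.chooseBasis ℤ M
  have h : t = ∏ k, TPt.cow (e.coord k) (t (Multiplicative.ofAdd (e k))) := by
    refine MonoidHom.ext fun m => ?_
    rw [MonoidHom.finsetProd_apply]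
    have hm : m = ∏ k, (Multiplicative.ofAdd (e k)) ^ (e.coord k (Multiplicative.toAdd m)) := by
      apply Multiplicative.toAdd.injective
      rw [toAdd_prod]
      simp only [toAdd_zpow, toAdd_ofAdd, Module.Basis.coord_apply]
      exact (e.sum_repr _).symm
    conv_lhs => rw [hm]
    rw [map_prod]
    simp only [map_zpow]
    rfl
  have h4 : t ∈ (simpleGen E B).comap (E.i B) := by
    rw [h]
    exact Subgroup.prod_mem _ fun k _ => cow_mem_of_span E hsc _ _
  exact h4

theorem gen_le_simpleGen (hsc : Submodule.span ℤ (Set.range P.coroot) = ⊤) :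
    gen E B ≤ simpleGen E B := by
  unfold gen
  rw [Subgroup.closure_le]
  rintro g (⟨t, rfl⟩ | ⟨a, ha, x, rfl | rfl⟩)
  · exact torus_mem E hsc t
  · exact uu_mem E ha x
  · exact uu_neg_mem E ha x

/-- **Over a local ring the points of a simply connected pinned group are generated by the simple root
groups and their opposites.** -/
theorem simpleGen_eq_top_local [IsLocalRing B] (hsc : Submodule.span ℤ (Set.range P.coroot) = ⊤) :
    simpleGen E B = ⊤ :=
  top_le_iff.mp ((gen_eq_top_local E).symm.le.trans (gen_le_simpleGen E hsc))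

end Groth.Agent.RedSub.H633.CorootGen
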