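import Groth.Prelude.Def_RedSub

/-!
# Points of `RedSub.pow` and of the ordered product `RedSub.prodMap`

`coord y k` is the `k`-th coordinate of a point `y : Y ⟶ pow X n`; `mkPt f` is the point with coordinates `f`.
`comp_prodMap : y ≫ prodMap X n f = (List.ofFn fun k => coord y k ≫ f k).prod`.
-/

set_option autoImplicit false
universe u

open CategoryTheory MonoidalCategory CartesianMonoidalCategory MonObj GrpObj AlgebraicGeometry

namespace Groth.Agent.RedSub.H633.PowPts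

variable {S : Scheme.{u}} {X Y Z : Over S}

/-- first coordinate -/
noncomputable def fstP (X : Over S) (n : ℕ) : RedSub.pow X (n + 1) ⟶ X := fst X (RedSub.pow X n)

/-- the remaining coordinates -/
noncomputable def sndP (X : Over S) (n : ℕ) : RedSub.pow X (n + 1) ⟶ RedSub.pow X n :=
  snd X (RedSub.pow X n)

/-- pairing -/
noncomputable def liftP {n : ℕ} (x : Y ⟶ X) (y : Y ⟶ RedSub.pow X n) : Y ⟶ RedSub.pow X (n + 1) :=
  lift x y

@[reassoc (attr := simp)]
lemma liftP_fst {n : ℕ} (x : Y ⟶ X) (y : Y ⟶ RedSub.pow X n) : liftP x y ≫ fstP X n = x :=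
  lift_fst _ _

@[reassoc (attr := simp)]
lemma liftP_snd {n : ℕ} (x : Y ⟶ X) (y : Y ⟶ RedSub.pow X n) : liftP x y ≫ sndP X n = y :=
  lift_snd _ _

lemma hom_extP {n : ℕ} {y z : Y ⟶ RedSub.pow X (n + 1)} (h1 : y ≫ fstP X n = z ≫ fstP X n)
    (h2 : y ≫ sndP X n = z ≫ sndP X n) : y = z :=
  CartesianMonoidalCategory.hom_ext _ _ h1 h2

/-- the coordinates of a point of `pow X n` -/
noncomputable def coord : ∀ {n : ℕ} (_ : Y ⟶ RedSub.pow X n), Fin n → (Y ⟶ X)
  | 0, _ => Fin.elim0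
  | n + 1, y => Fin.cons (y ≫ fstP X n) (coord (y ≫ sndP X n))

/-- the point of `pow X n` with given coordinates -/
noncomputable def mkPt : ∀ {n : ℕ} (_ : Fin n → (Y ⟶ X)), (Y ⟶ RedSub.pow X n)
  | 0, _ => toUnit Y
  | _ + 1, f => liftP (f 0) (mkPt (fun k => f k.succ))

lemma coord_zero {n : ℕ} (y : Y ⟶ RedSub.pow X (n + 1)) : coord y 0 = y ≫ fstP X n := rfl

lemma coord_succ {n : ℕ} (y : Y ⟶ RedSub.pow X (n + 1)) (k : Fin n) :
    coord y k.succ = coord (y ≫ sndP X n) k := rfl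

lemma mkPt_succ {n : ℕ} (f : Fin (n + 1) → (Y ⟶ X)) :
    mkPt f = liftP (f 0) (mkPt (fun k => f k.succ)) := rfl

@[simp] lemma coord_mkPt : ∀ {n : ℕ} (f : Fin n → (Y ⟶ X)) (k : Fin n), coord (mkPt f) k = f k
  | 0, _, k => k.elim0
  | n + 1, f, k => by
    refine Fin.cases ?_ (fun k => ?_) k
    · rw [coord_zero, mkPt_succ, liftP_fst]
    · rw [coord_succ, mkPt_succ, liftP_snd, coord_mkPt]

lemma hom_ext : ∀ {n : ℕ} {y z : Y ⟶ RedSub.pow X n} (_ : ∀ k, coord y k = coord z k), y = z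
  | 0, _, _, _ => toUnit_unique _ _
  | n + 1, y, z, h => hom_extP (h 0) (hom_ext fun k => h k.succ)

@[simp] lemma mkPt_coord {n : ℕ} (y : Y ⟶ RedSub.pow X n) : mkPt (coord y) = y :=
  hom_ext fun k => coord_mkPt _ k

/-- points of `pow X n` -/
noncomputable def powEquiv (X Y : Over S) (n : ℕ) : (Y ⟶ RedSub.pow X n) ≃ (Fin n → (Y ⟶ X)) where
  toFun := coord
  invFun := mkPt
  left_inv := mkPt_coord
  right_inv f := funext fun k => coord_mkPt f k

lemma comp_coord : ∀ {n : ℕ} (g : Z ⟶ Y) (y : Y ⟶ RedSub.pow X n) (k : Fin n),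
    coord (g ≫ y) k = g ≫ coord y k
  | 0, _, _, k => k.elim0
  | n + 1, g, y, k => by
    refine Fin.cases ?_ (fun k => ?_) k
    · rw [coord_zero, coord_zero, Category.assoc]
    · rw [coord_succ, coord_succ, Category.assoc, comp_coord]

lemma comp_mkPt {n : ℕ} (g : Z ⟶ Y) (f : Fin n → (Y ⟶ X)) :
    g ≫ mkPt f = mkPt (fun k => g ≫ f k) :=
  hom_ext fun k => by rw [comp_coord, coord_mkPt, coord_mkPt]

variable {G : Over S} [GrpObj G]

lemma prodMap_zero (f : Fin 0 → (X ⟶ G)) : RedSub.prodMap X 0 f = 1 := rfl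

lemma prodMap_succ {n : ℕ} (f : Fin (n + 1) → (X ⟶ G)) :
    RedSub.prodMap X (n + 1) f =
      (fstP X n ≫ f 0) * (sndP X n ≫ RedSub.prodMap X n (fun k => f k.succ)) := rfl

/-- the ordered product map on points -/
lemma comp_prodMap : ∀ {n : ℕ} (y : Y ⟶ RedSub.pow X n) (f : Fin n → (X ⟶ G)),
    y ≫ RedSub.prodMap X n f = (List.ofFn fun k => coord y k ≫ f k).prod
  | 0, y, f => by
    rw [List.ofFn_zero, List.prod_nil, prodMap_zero, MonObj.comp_one]
  | n + 1, y, f => by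
    rw [List.ofFn_succ, List.prod_cons, prodMap_succ, MonObj.comp_mul, ← Category.assoc,
      ← Category.assoc, comp_prodMap]
    rfl

lemma mkPt_comp_prodMap {n : ℕ} (y : Fin n → (Y ⟶ X)) (f : Fin n → (X ⟶ G)) :
    mkPt y ≫ RedSub.prodMap X n f = (List.ofFn fun k => y k ≫ f k).prod := by
  rw [comp_prodMap]
  congr 2
  funext k
  rw [coord_mkPt]

section maps

variable (D : Red.SplitRed G)

/-- the big cell map on points -/
lemma lift_cellMap {n m : ℕ} (eneg : Fin n → D.idx) (epos : Fin m → D.idx)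
    (y : Fin n → (Y ⟶ Red.Ga S)) (t : Y ⟶ D.T) (x : Fin m → (Y ⟶ Red.Ga S)) :
    lift (mkPt y) (lift t (mkPt x)) ≫ RedSub.cellMap D eneg epos =
      (List.ofFn fun k => y k ≫ D.u (eneg k)).prod *
        ((t ≫ D.i) * (List.ofFn fun k => x k ≫ D.u (epos k)).prod) := by
  unfold RedSub.cellMap
  rw [MonObj.comp_mul, MonObj.comp_mul, lift_fst_assoc, lift_snd_assoc, lift_snd_assoc,
    lift_fst_assoc, lift_snd_assoc, mkPt_comp_prodMap, mkPt_comp_prodMap]

/-- the Borel map on points -/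
lemma lift_borelMap {m : ℕ} (epos : Fin m → D.idx) (t : Y ⟶ D.T) (x : Fin m → (Y ⟶ Red.Ga S)) :
    lift t (mkPt x) ≫ RedSub.borelMap D epos =
      (t ≫ D.i) * (List.ofFn fun k => x k ≫ D.u (epos k)).prod := by
  unfold RedSub.borelMap
  rw [MonObj.comp_mul, lift_fst_assoc, lift_snd_assoc, mkPt_comp_prodMap]

/-- the Bruhat map on points -/
lemma lift_bruhatMap (nr : D.idx → (𝟙_ (Over S) ⟶ G)) (l : List D.idx) {k m : ℕ}
    (e : Fin k → D.idx) (epos : Fin m → D.idx)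
    (y : Fin k → (Y ⟶ Red.Ga S)) (t : Y ⟶ D.T) (x : Fin m → (Y ⟶ Red.Ga S)) :
    lift (mkPt y) (lift t (mkPt x)) ≫ RedSub.bruhatMap D nr l e epos =
      (List.ofFn fun k => y k ≫ D.u (e k)).prod *
        ((toUnit Y ≫ (l.map nr).prod) *
          ((t ≫ D.i) * (List.ofFn fun k => x k ≫ D.u (epos k)).prod)) := by
  unfold RedSub.bruhatMap
  rw [MonObj.comp_mul, MonObj.comp_mul, MonObj.comp_mul, lift_fst_assoc, lift_snd_assoc,
    lift_snd_assoc, lift_fst_assoc, lift_snd_assoc, mkPt_comp_prodMap, mkPt_comp_prodMap]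
  congr 2
  rw [← Category.assoc]
  congr 1
  exact toUnit_unique _ _

end maps

/-- every point of the source of the big cell map is given by coordinates -/
lemma eq_lift {A T : Over S} {n m : ℕ} (z : Y ⟶ RedSub.pow A n ⊗ (T ⊗ RedSub.pow X m)) :
    z = lift (mkPt (coord (z ≫ fst _ _))) (lift (z ≫ snd _ _ ≫ fst _ _)
      (mkPt (coord (z ≫ snd _ _ ≫ snd _ _)))) := by
  apply CartesianMonoidalCategory.hom_ext
  · rw [lift_fst, mkPt_coord]
  · rw [lift_snd]
    apply CartesianMonoidalCategory.hom_ext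
    · rw [lift_fst, Category.assoc]
    · rw [lift_snd, mkPt_coord, Category.assoc]

lemma eq_lift' {T : Over S} {m : ℕ} (z : Y ⟶ T ⊗ RedSub.pow X m) :
    z = lift (z ≫ fst _ _) (mkPt (coord (z ≫ snd _ _))) := by
  apply CartesianMonoidalCategory.hom_ext
  · rw [lift_fst]
  · rw [lift_snd, mkPt_coord]

end Groth.Agent.RedSub.H633.PowPts
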